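import Groth.Agent.FittX.Approx
import Groth.Agent.FlatPure.Content

/-!
# Fitting ideals at one prime, strict transforms, and content in projective algebras
-/

set_option autoImplicit false
set_option linter.style.haveILetI false

universe u

open Module TensorProduct

namespace Groth.Agent.FlatBlow

open FittX

section Fit

variable {R : Type u} [CommRing R] {M : Type u} [AddCommGroup M] [Module R M]

/-- If the `k`-th Fitting ideal is generated by `f` at `p`, then modulo `a`-power torsion, for `f ∣ a`,
the module is generated by `k` elements near `p`. -/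
theorem not_le_quotient_powTorsion [Module.Finite R M] {k : ℕ} {f a : R} (hfa : f ∣ a) (p : Ideal R) [p.IsPrime]
    (hf : (Fitt.ideal R M k).map (algebraMap R (Localization.AtPrime p)) =
      Ideal.span {algebraMap R (Localization.AtPrime p) f}) :
    ¬ Fitt.ideal R (M ⧸ FlatCA.powTorsion R a M) k ≤ p := by
  obtain ⟨c₀, hc₀⟩ := hfa
  let S := p.primeCompl
  let A := Localization.AtPrime p
  haveI : Module.Finite A (LocalizedModule S M) := Module.Finite.of_isLocalizedModule S (LocalizedModule.mkLinearMap S M)
  obtain ⟨g, hg⟩ := exists_gen_quotient (R := A) (M := LocalizedModule S M) k (algebraMap R A f)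
    ((ideal_baseChange (FittX.isBaseChange_mkLinearMap M S) k).trans hf)
  set T := FlatCA.powTorsion R a M
  let q := LocalizedModule.map S T.mkQ
  have hq : LinearMap.ker (algebraMap R A f • (LinearMap.id : LocalizedModule S M →ₗ[A] LocalizedModule S M)) ≤
      LinearMap.ker q := by
    intro y hy
    induction y using LocalizedModule.induction_on with
    | h m s =>
      rw [LinearMap.mem_ker, LinearMap.smul_apply, LinearMap.id_apply, algebraMap_smul,
        LocalizedModule.smul'_mk, IsLocalizedModule.mk_eq_mk', IsLocalizedModule.mk'_eq_zero'] at hy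
      obtain ⟨t, htm⟩ := hy
      rw [LinearMap.mem_ker]
      show LocalizedModule.map S T.mkQ (LocalizedModule.mk m s) = 0
      rw [LocalizedModule.map_mk, IsLocalizedModule.mk_eq_mk', IsLocalizedModule.mk'_eq_zero']
      refine ⟨t, ?_⟩
      show (t : R) • T.mkQ m = 0
      rw [← map_smul, Submodule.mkQ_apply, Submodule.Quotient.mk_eq_zero]
      refine mem_powTorsion.2 ⟨1, ?_⟩
      have htm' : (t : R) • f • m = 0 := htm
      rw [pow_one, hc₀, mul_comm, mul_smul, smul_comm f (t : R), htm', smul_zero]
  let ψ := (LinearMap.ker (algebraMap R A f • (LinearMap.id : LocalizedModule S M →ₗ[A] LocalizedModule S M))).liftQ q hq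
  have hψ : Function.Surjective ψ := fun y => by
    obtain ⟨z, hz⟩ := LocalizedModule.map_surjective S T.mkQ (Submodule.mkQ_surjective T) y
    exact ⟨Submodule.Quotient.mk z, hz⟩
  refine (not_le_iff_atPrime (M ⧸ T) k p).2 ⟨ψ ∘ g, ?_⟩
  rw [Set.range_comp, Submodule.span_image, hg, Submodule.map_top, LinearMap.range_eq_top.2 hψ]

/-- Fitting ideals that vanish survive the quotient by `a`-power torsion, `a` a non-zero-divisor. -/
theorem ideal_quotient_powTorsion_eq_bot [Module.Finite R M] {k : ℕ} {a : R} (ha : a ∈ nonZeroDivisors R)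
    (h : Fitt.ideal R M k = ⊥) : Fitt.ideal R (M ⧸ FlatCA.powTorsion R a M) k = ⊥ := by
  have hker : ∀ z, (FlatCA.powTorsion R a M).mkQ z = 0 → ∃ n : ℕ, a ^ n • z = 0 := fun z hz =>
    mem_powTorsion.1 ((Submodule.Quotient.mk_eq_zero _).1 hz)
  obtain ⟨e⟩ := nonempty_localized_equiv (FlatCA.powTorsion R a M).mkQ (Submodule.mkQ_surjective _) hker
    (Ideal.le_radical (Ideal.mem_span_singleton_self a))
  haveI : Module.Finite (Localization.Away a) (LocalizedModule (Submonoid.powers a) M) :=
    Module.Finite.of_isLocalizedModule (Submonoid.powers a) (LocalizedModule.mkLinearMap (Submonoid.powers a) M)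
  have h1 := ideal_congr e k
  rw [ideal_map_away, ideal_map_away, h, Ideal.map_bot] at h1
  rw [eq_bot_iff]
  intro x hx
  have hinj : Function.Injective (algebraMap R (Localization.Away a)) :=
    IsLocalization.injective (Localization.Away a) (powers_le_nonZeroDivisors ha)
  refine hinj ?_
  rw [map_zero, ← Ideal.mem_bot, h1]
  exact Ideal.mem_map_of_mem _ hx
where
  powers_le_nonZeroDivisors {a : R} (ha : a ∈ nonZeroDivisors R) : Submonoid.powers a ≤ nonZeroDivisors R :=
    (Submonoid.powers_le (P := nonZeroDivisors R)).2 ha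

/-- Free of rank `r` near a prime from Fitting ideals. -/
theorem exists_free_near [Module.Finite R M] (r : ℕ) (h0 : ∀ k, k < r → Fitt.ideal R M k = ⊥)
    (p : Ideal R) [p.IsPrime] (hr : ¬ Fitt.ideal R M r ≤ p) :
    ∃ f : R, f ∉ p ∧ Module.Free (Localization.Away f) (LocalizedModule (Submonoid.powers f) M) ∧
      Module.finrank (Localization.Away f) (LocalizedModule (Submonoid.powers f) M) = r := by
  obtain ⟨f, hf, g, hg⟩ := (not_le_iff_away M r p).1 hr
  haveI : Module.Finite (Localization.Away f) (LocalizedModule (Submonoid.powers f) M) :=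
    Module.Finite.of_isLocalizedModule (Submonoid.powers f) (LocalizedModule.mkLinearMap (Submonoid.powers f) M)
  have : Nontrivial (Localization.Away f) :=
    (IsLocalization.isPrime_of_isPrime_disjoint (Submonoid.powers f) (Localization.Away f) p
      ‹_› (by rwa [Ideal.disjoint_powers_iff_notMem _ (Ideal.IsPrime.isRadical ‹_›)])).ne_top
        |> fun h => (not_subsingleton_iff_nontrivial.1 fun _ => h (Subsingleton.elim _ _))
  have hli : LinearIndependent (Localization.Away f) g :=
    linearIndependent_of_ideal_eq_bot g hg fun j hj => by rw [ideal_map_away, h0 j hj, Ideal.map_bot]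
  let b := Basis.mk hli hg.ge
  exact ⟨f, hf, Module.Free.of_basis b, by rw [Module.finrank_eq_card_basis b, Fintype.card_fin]⟩

end Fit

section Content

open FlatPure

variable {R : Type u} [CommRing R] {S : Type u} [CommRing S] [Algebra R S]

theorem mem_map_of_content_le [Module.Projective R S] {x : S} {J : Ideal R} (h : content (A := R) x ≤ J) :
    x ∈ J.map (algebraMap R S) := by
  obtain ⟨s, hs⟩ := Module.projective_def'.1 (inferInstance : Module.Projective R S)
  have hx : Finsupp.linearCombination R (id : S → S) (s x) = x := LinearMap.congr_fun hs x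
  rw [← hx, Finsupp.linearCombination_apply, Finsupp.sum]
  refine sum_mem fun y _ => ?_
  rw [Algebra.smul_def]
  exact Ideal.mul_mem_right _ _ (Ideal.mem_map_of_mem _ (h (Ideal.subset_span ⟨(Finsupp.lapply y).comp s, rfl⟩)))

theorem content_le_of_mem_map {x : S} {J : Ideal R} (h : x ∈ J.map (algebraMap R S)) :
    content (A := R) x ≤ J := by
  rw [content, Ideal.span_le]
  rintro _ ⟨φ, rfl⟩
  show φ x ∈ J
  induction h using Submodule.span_induction generalizing φ with
  | mem y hy =>
    obtain ⟨r, hr, rfl⟩ := hy
    rw [Algebra.algebraMap_eq_smul_one, map_smul, smul_eq_mul]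
    exact Ideal.mul_mem_right _ _ hr
  | zero => simp
  | add y z _ _ hy hz => rw [map_add]; exact add_mem (hy φ) (hz φ)
  | smul b y _ hy =>
    exact hy (φ.comp (LinearMap.mulLeft R b))

theorem content_smul [Module.Projective R S] (r : R) (x : S) :
    content (A := R) (r • x) = Ideal.span {r} * content (A := R) x := by
  rw [content, content, Ideal.span_mul_span']
  congr 1
  ext z
  simp [Set.singleton_mul, smul_eq_mul, eq_comm]

theorem eq_zero_of_content [Module.Projective R S] {x : S} (h : content (A := R) x = ⊥) : x = 0 := by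
  simpa using mem_map_of_content_le (J := ⊥) h.le

theorem algebraMap_mem_nonZeroDivisors_of_projective [Module.Projective R S] {r : R} (hr : r ∈ nonZeroDivisors R) :
    algebraMap R S r ∈ nonZeroDivisors S := by
  refine mem_nonZeroDivisors_iff_right.2 fun x hx => eq_zero_of_content (R := R) ?_
  rw [eq_bot_iff, content, Ideal.span_le]
  rintro _ ⟨φ, rfl⟩
  refine mem_nonZeroDivisors_iff_right.1 hr _ ?_
  rw [mul_comm, ← smul_eq_mul, ← map_smul, Algebra.smul_def, mul_comm, hx, map_zero]

theorem content_baseChange [Module.Projective R S] {R' : Type u} [CommRing R'] [Algebra R R'] {S' : Type u}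
    [AddCommGroup S'] [Module R S'] [Module R' S'] [IsScalarTower R R' S'] {ι : S →ₗ[R] S'}
    (h : IsBaseChange R' ι) (x : S) :
    content (A := R') (ι x) = (content (A := R) x).map (algebraMap R R') := by
  refine le_antisymm ?_ ?_
  · rw [content, Ideal.span_le]
    rintro _ ⟨ψ, rfl⟩
    show ψ (ι x) ∈ _
    obtain ⟨s, hs⟩ := Module.projective_def'.1 (inferInstance : Module.Projective R S)
    have hx : Finsupp.linearCombination R (id : S → S) (s x) = x := LinearMap.congr_fun hs x
    rw [show ψ (ι x) = ψ (ι (Finsupp.linearCombination R (id : S → S) (s x))) by rw [hx],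
      Finsupp.linearCombination_apply, Finsupp.sum, map_sum, map_sum]
    refine sum_mem fun y _ => ?_
    rw [map_smul, LinearMap.map_smul_of_tower, Algebra.smul_def]
    exact Ideal.mul_mem_right _ _ (Ideal.mem_map_of_mem _ (Ideal.subset_span ⟨(Finsupp.lapply y).comp s, rfl⟩))
  · rw [Ideal.map_le_iff_le_comap, content, Ideal.span_le]
    rintro _ ⟨φ, rfl⟩
    refine Ideal.subset_span ⟨h.lift ((Algebra.linearMap R R').comp φ), ?_⟩
    exact h.lift_eq _ x

end Content

end Groth.Agent.FlatBlow
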