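import Groth.Agent.FlatBlow.Fit
import Groth.Agent.RGLib.GeomBasis
import Groth.Agent.ProjLocalFree.Flat

/-!
# An affine blow-up makes a module free near the generic points of all fibres (Stacks 0810)
-/

set_option autoImplicit false
set_option linter.style.haveILetI false
set_option backward.isDefEq.respectTransparency false
set_option backward.isDefEq.respectTransparency.types false

universe u

open Module TensorProduct

namespace Groth.Agent.FlatBlow

open FittX FlatPure

/-- A finitely presented approximation, iso away from `f`. -/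
theorem exists_fp_approx_away {S M : Type u} [CommRing S] [AddCommGroup M] [Module S M] [Module.Finite S M]
    (f : S) (hfp : Module.FinitePresentation (Localization.Away f) (LocalizedModule (Submonoid.powers f) M)) :
    ∃ (N : Type u) (_ : AddCommGroup N) (_ : Module S N) (_ : Module.FinitePresentation S N) (φ : N →ₗ[S] M),
      Function.Surjective φ ∧ ∀ z, φ z = 0 → ∃ i : ℕ, f ^ i • z = 0 := by
  classical
  obtain ⟨n, π, hπ⟩ := Module.Finite.exists_fin' S M
  let T := Submonoid.powers f
  haveI := hfp
  haveI : Module.Finite (Localization.Away f) (LocalizedModule T (Fin n → S)) :=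
    Module.Finite.of_isLocalizedModule T (LocalizedModule.mkLinearMap T _)
  obtain ⟨Y, hY⟩ := Module.FinitePresentation.fg_ker (LocalizedModule.map T π)
    (LocalizedModule.map_surjective T π hπ)
  have hy : ∀ y : Y, ∃ (k : Fin n → S) (s : T), π k = 0 ∧
      IsLocalizedModule.mk' (LocalizedModule.mkLinearMap T (Fin n → S)) k s = y.1 := by
    rintro ⟨y, hyY⟩
    have h0 : LocalizedModule.map T π y = 0 := by
      rw [← LinearMap.mem_ker, ← hY]; exact Submodule.subset_span hyY
    induction y using LocalizedModule.induction_on with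
    | h k s =>
      rw [LocalizedModule.map_mk, IsLocalizedModule.mk_eq_mk', IsLocalizedModule.mk'_eq_zero'] at h0
      obtain ⟨w, hw⟩ := h0
      refine ⟨(w : S) • k, w * s, by rw [map_smul]; exact hw, ?_⟩
      show _ = LocalizedModule.mk k s
      rw [IsLocalizedModule.mk_eq_mk']
      exact IsLocalizedModule.mk'_cancel_left _ k w s
  choose k s hk hks using hy
  let K₀ : Submodule S (Fin n → S) := Submodule.span S (Set.range k)
  have hK₀ : K₀ ≤ LinearMap.ker π := Submodule.span_le.2 (by rintro _ ⟨y, rfl⟩; exact hk y)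
  haveI : Module.FinitePresentation S ((Fin n → S) ⧸ K₀) :=
    Module.finitePresentation_of_surjective K₀.mkQ (Submodule.mkQ_surjective K₀)
      (by rw [Submodule.ker_mkQ]; exact Submodule.fg_span (Set.finite_range k))
  refine ⟨(Fin n → S) ⧸ K₀, inferInstance, inferInstance, inferInstance, K₀.liftQ π hK₀,
    fun y => ?_, fun z hz => ?_⟩
  · obtain ⟨z, rfl⟩ := hπ y
    exact ⟨Submodule.Quotient.mk z, rfl⟩
  · obtain ⟨z, rfl⟩ := Submodule.Quotient.mk_surjective K₀ z
    have hmem : LocalizedModule.mkLinearMap T (Fin n → S) z ∈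
        K₀.localized' (Localization.Away f) T (LocalizedModule.mkLinearMap T (Fin n → S)) := by
      have h1 : LocalizedModule.mkLinearMap T (Fin n → S) z ∈ LinearMap.ker (LocalizedModule.map T π) := by
        rw [LinearMap.mem_ker, LocalizedModule.mkLinearMap_apply, LocalizedModule.map_mk,
          show π z = 0 from hz, LocalizedModule.zero_mk]
      rw [← hY] at h1
      refine Submodule.span_le.2 (fun y hy => ?_) h1
      exact ⟨k ⟨y, hy⟩, Submodule.subset_span ⟨_, rfl⟩, s ⟨y, hy⟩, hks ⟨y, hy⟩⟩
    obtain ⟨w, hw, v, hv⟩ := hmem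
    rw [IsLocalizedModule.mk'_eq_iff, Submonoid.smul_def, ← map_smul] at hv
    obtain ⟨⟨_, i, rfl⟩, hi⟩ := (IsLocalizedModule.eq_iff_exists T (LocalizedModule.mkLinearMap T (Fin n → S))).1 hv
    obtain ⟨_, j, rfl⟩ := v
    refine ⟨i + j, ?_⟩
    rw [← Submodule.Quotient.mk_smul, Submodule.Quotient.mk_eq_zero, pow_add, mul_smul]
    exact (show f ^ i • (f ^ j • z) = f ^ i • w from hi.symm) ▸ Submodule.smul_mem _ _ hw

variable {R S : Type u} [CommRing R] [CommRing S] [Algebra R S] [Algebra.FinitePresentation R S] [Module.Flat R S]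

/-- The generic points of the fibres over `D(f)` detect zero in `S_f`. -/
theorem exists_pow_mul_eq_zero (hgi : FlatCA.GeomIntegralFibres R S) (f : R) (x : S)
    (h : ∀ (p : Ideal R) [p.IsPrime], f ∉ p → ∃ s ∉ p.map (algebraMap R S), s * x = 0) :
    ∃ n : ℕ, algebraMap R S f ^ n * x = 0 := by
  let A : Ideal R := Submodule.comap (Algebra.linearMap R S) (LinearMap.ker (LinearMap.mulRight R x))
  have hA : ∀ t, t ∈ A ↔ algebraMap R S t * x = 0 := fun t => by simp [A]
  suffices f ∈ A.radical by
    obtain ⟨n, hn⟩ := this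
    exact ⟨n, by rw [← map_pow]; exact (hA _).1 hn⟩
  rw [Ideal.radical_eq_sInf, Ideal.mem_sInf]
  rintro p ⟨hle, hp⟩
  by_contra hfp
  haveI := hp
  haveI := (RGLib.isPrime_map_and_comap hgi p (S := S)).1
  obtain ⟨s, hs, hsx⟩ := h p hfp
  obtain ⟨w, hw, hwz⟩ := RGLib.exists_kill_of_kill_prime hgi p 1 R ((fun _ : Fin 1 => x) ⊗ₜ[R] (1 : R)) s hs (by
    rw [TensorProduct.smul_tmul', show s • (fun _ : Fin 1 => x) = 0 from funext fun _ => hsx, TensorProduct.zero_tmul])
  obtain ⟨t, ht, rfl⟩ := hw
  refine ht (hle ((hA t).2 ?_))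
  have h1 := congrArg (TensorProduct.rid R (Fin 1 → S)) hwz
  rw [map_zero, TensorProduct.smul_tmul', TensorProduct.rid_tmul, one_smul] at h1
  exact congrFun h1 0

/-- In a base change of `S` the extension of a prime is prime. -/
theorem isPrime_map_pushout (hgi : FlatCA.GeomIntegralFibres R S) [Module.Projective R S]
    {R' S' : Type u} [CommRing R'] [CommRing S'] [Algebra R R'] [Algebra S S'] [Algebra R' S'] [Algebra R S']
    [IsScalarTower R S S'] [IsScalarTower R R' S'] [Algebra.IsPushout R R' S S']
    (p : Ideal R') [p.IsPrime] : (p.map (algebraMap R' S')).IsPrime := by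
  let K := p.ResidueField
  let e₀ : R' ⊗[R] S ≃ₐ[R'] S' := Algebra.IsPushout.equiv R R' S S'
  haveI : Module.Projective R' S' := Module.Projective.of_equiv e₀.toLinearEquiv
  let e : K ⊗[R] S ≃ₐ[K] K ⊗[R'] S' :=
    (Algebra.TensorProduct.cancelBaseChange R R' K K S).symm.trans
      (Algebra.TensorProduct.congr (AlgEquiv.refl : K ≃ₐ[K] K) e₀)
  haveI := RGLib.isDomain_tensor_field hgi K
  haveI : IsDomain (K ⊗[R'] S') := e.symm.toRingEquiv.toMulEquiv.isDomain _
  let ψ : S' →ₐ[R'] K ⊗[R'] S' := Algebra.TensorProduct.includeRight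
  have hk : p.map (algebraMap R' S') = RingHom.ker ψ.toRingHom := by
    ext x
    rw [RingHom.mem_ker]
    show _ ↔ (1 : K) ⊗ₜ[R'] x = 0
    rw [one_tmul_eq_zero_iff, Ideal.map_eq_bot_iff_le_ker, Ideal.ker_algebraMap_residueField]
    exact ⟨content_le_of_mem_map, mem_map_of_content_le⟩
  rw [hk]
  exact RingHom.ker_isPrime _

theorem exists_blowup_ideal (hgi : FlatCA.GeomIntegralFibres R S) (f : R) (r : ℕ)
    (M : Type u) [AddCommGroup M] [Module S M] [Module R M] [IsScalarTower R S M] [Module.Finite S M]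
    (hfp : Module.FinitePresentation (Localization.Away (algebraMap R S f)) (LocalizedModule (Submonoid.powers (algebraMap R S f)) M))
    (hfree : ∀ (p : Ideal R) [p.IsPrime] [(p.map (algebraMap R S)).IsPrime], f ∉ p →
      Module.Free (Localization.AtPrime (p.map (algebraMap R S))) (LocalizedModule (p.map (algebraMap R S)).primeCompl M) ∧
      Module.rank (Localization.AtPrime (p.map (algebraMap R S))) (LocalizedModule (p.map (algebraMap R S)).primeCompl M) = r) :
    ∃ I : Ideal R, I.FG ∧ I.radical = (Ideal.span {f}).radical ∧ ∀ a ∈ I,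
      ∀ (S' M' : Type u) [CommRing S'] [Algebra S S'] [Algebra (BlowUp.affineAlgebra R I a) S'] [Algebra R S']
        [IsScalarTower R S S'] [IsScalarTower R (BlowUp.affineAlgebra R I a) S']
        [Algebra.IsPushout R S (BlowUp.affineAlgebra R I a) S']
        [AddCommGroup M'] [Module S' M'] [Module S M'] [IsScalarTower S S' M']
        (φ : M →ₗ[S] M'), IsBaseChange S' φ →
        ∀ (p' : Ideal (BlowUp.affineAlgebra R I a)) [p'.IsPrime],
          ∃ g : S', g ∉ p'.map (algebraMap (BlowUp.affineAlgebra R I a) S') ∧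
            Module.Free (Localization.Away g)
              (LocalizedModule (Submonoid.powers g) (M' ⧸ FlatCA.powTorsion S' (algebraMap R S' a) M')) ∧
            Module.rank (Localization.Away g)
              (LocalizedModule (Submonoid.powers g) (M' ⧸ FlatCA.powTorsion S' (algebraMap R S' a) M')) = r := by
  classical
  haveI : Module.Projective R S := ProjLocalFree.projective_of_geomIntegral hgi
  set fS := algebraMap R S f with hfS
  obtain ⟨N, _, _, _, π, hπ, hker⟩ := exists_fp_approx_away fS hfp
  -- bases at the generic points of fibres over `D(f)`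
  have hbasis : ∀ (p : Ideal R) [p.IsPrime] [(p.map (algebraMap R S)).IsPrime], f ∉ p →
      Nonempty (Module.Basis (Fin r) (Localization.AtPrime (p.map (algebraMap R S)))
        (LocalizedModule (p.map (algebraMap R S)).primeCompl N)) := by
    intro p _ _ hp
    set q := p.map (algebraMap R S) with hq
    have hfq : fS ∉ q := fun h => by
      have h1 : f ∈ q.comap (algebraMap R S) := h
      rw [(RGLib.isPrime_map_and_comap hgi p).2] at h1
      exact hp h1
    obtain ⟨hF, hrk⟩ := hfree p hp
    have hinj : Function.Injective (LocalizedModule.map q.primeCompl π) := by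
      rw [injective_iff_map_eq_zero]
      intro y hy
      induction y using LocalizedModule.induction_on with
      | h m s =>
        rw [LocalizedModule.map_mk, IsLocalizedModule.mk_eq_mk', IsLocalizedModule.mk'_eq_zero'] at hy
        obtain ⟨t, ht⟩ := hy
        obtain ⟨n, hn⟩ := hker ((t : S) • m) (by rw [map_smul]; exact ht)
        rw [IsLocalizedModule.mk_eq_mk', IsLocalizedModule.mk'_eq_zero']
        refine ⟨⟨fS ^ n * (t : S), ?_⟩, ?_⟩
        · exact mul_mem (pow_mem (show fS ∈ q.primeCompl from hfq) n) t.2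
        · show (fS ^ n * (t : S)) • m = 0
          rw [mul_smul, hn]
    let e := LinearEquiv.ofBijective (LocalizedModule.map q.primeCompl π)
      ⟨hinj, LocalizedModule.map_surjective _ π hπ⟩
    haveI : Module.Finite (Localization.AtPrime q) (LocalizedModule q.primeCompl M) :=
      Module.Finite.of_isLocalizedModule q.primeCompl (LocalizedModule.mkLinearMap q.primeCompl M)
    haveI := hF
    exact ⟨((Module.finBasis _ _).reindex (finCongr (Module.finrank_eq_of_rank_eq hrk))).map e.symm⟩
  -- the lower Fitting ideals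
  have hlow : ∀ j, j < r → ∀ x ∈ Fitt.ideal S N j, ∃ n : ℕ, fS ^ n * x = 0 := by
    intro j hj x hx
    refine exists_pow_mul_eq_zero hgi f x fun p hp hfp' => ?_
    haveI := (RGLib.isPrime_map_and_comap hgi p (S := S)).1
    obtain ⟨b⟩ := hbasis p hfp'
    have h0 : algebraMap S (Localization.AtPrime (p.map (algebraMap R S))) x = 0 := by
      have h1 := Ideal.mem_map_of_mem (algebraMap S (Localization.AtPrime (p.map (algebraMap R S)))) hx
      rw [← ideal_baseChange (FittX.isBaseChange_mkLinearMap N _) j, ideal_eq_bot_of_free _ j r b hj,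
        Ideal.mem_bot] at h1
      exact h1
    obtain ⟨⟨c, hc⟩, hcx⟩ := (IsLocalization.map_eq_zero_iff (p.map (algebraMap R S)).primeCompl _ x).1 h0
    exact ⟨c, hc, hcx⟩
  -- the ideal
  obtain ⟨G, hG⟩ := FittX.ideal_fg (R := S) (M := N) r
  let C : Ideal R := ⨆ g : G, content (A := R) (g : S)
  have hCfg : C.FG := Submodule.fg_iSup _ fun g => content_fg (A := R) (g : S)
  have hC : ∀ (p : Ideal R) [p.IsPrime], f ∉ p → ¬ C ≤ p := by
    intro p _ hfp' hle
    haveI := (RGLib.isPrime_map_and_comap hgi p (S := S)).1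
    obtain ⟨b⟩ := hbasis p hfp'
    refine (not_le_iff_atPrime N r _).2 ⟨b, b.span_eq⟩ ?_
    rw [← hG, Submodule.span_le]
    exact fun g hg => mem_map_of_content_le ((le_iSup (fun g : G => content (A := R) (g : S)) ⟨g, hg⟩).trans hle)
  have hfC : (Ideal.span {f}) ≤ C.radical := by
    rw [Ideal.span_singleton_le_iff_mem, Ideal.radical_eq_sInf, Ideal.mem_sInf]
    rintro p ⟨hle, hp⟩
    by_contra hfp'
    exact @hC p hp hfp' hle
  refine ⟨Ideal.span {f} * C, (Submodule.fg_span_singleton f).mul hCfg, ?_, ?_⟩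
  · rw [Ideal.radical_mul, inf_eq_left, Ideal.radical_le_radical_iff]
    exact hfC
  intro a ha
  obtain ⟨y, hy, rfl⟩ := Ideal.mem_span_singleton_mul.1 ha
  set I := Ideal.span {f} * C with hI
  set R' := BlowUp.affineAlgebra R I (f * y) with hR'
  intro S' M' _ iSS' iR'S' iRS' tRSS' tRR'S' iPO _ _ _ _ φ hφ p' _
  let e₁ : R' ≃ₐ[R] ↥(BlowUp.affineAlgebra R I (f * y)) := AlgEquiv.refl
  -- the base `R'`
  have haR : algebraMap R R' (f * y) ∈ nonZeroDivisors R' := FittX.algebraMap_mem_nonZeroDivisors e₁
  rw [map_mul] at haR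
  obtain ⟨hfR, hyR⟩ := mul_mem_nonZeroDivisors.1 haR
  have hCy : ∀ c ∈ C, algebraMap R R' c ∈ Ideal.span {algebraMap R R' y} := fun c hc => by
    have h1 := Ideal.mem_map_of_mem (algebraMap R R') (Ideal.mul_mem_mul (Ideal.mem_span_singleton_self f) hc)
    rw [FittX.map_ideal_eq_span e₁ ha, Ideal.mem_span_singleton, map_mul, map_mul] at h1
    obtain ⟨d, hd⟩ := h1
    rw [Ideal.mem_span_singleton]
    exact ⟨d, (mul_cancel_left_mem_nonZeroDivisors hfR).1 (hd.trans (mul_assoc _ _ _))⟩
  -- `S'`
  haveI hpo : Algebra.IsPushout R R' S S' := Algebra.IsPushout.symm ‹_›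
  haveI : Module.Projective R' S' :=
    Module.Projective.of_equiv (Algebra.IsPushout.equiv R R' S S').toLinearEquiv
  haveI := isPrime_map_pushout hgi (S := S) (S' := S') p'
  set q' := p'.map (algebraMap R' S') with hq'
  let ι : S →ₗ[R] S' := (IsScalarTower.toAlgHom R S S').toLinearMap
  have hι : IsBaseChange R' ι := hpo.out
  have hnzd : ∀ t : R, algebraMap R R' t ∈ nonZeroDivisors R' → algebraMap R S' t ∈ nonZeroDivisors S' := fun t ht => by
    rw [IsScalarTower.algebraMap_apply R R' S']
    exact algebraMap_mem_nonZeroDivisors_of_projective (R := R') ht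
  have hfS' : algebraMap S S' fS ∈ nonZeroDivisors S' := by
    rw [hfS, ← IsScalarTower.algebraMap_apply]
    exact hnzd f hfR
  -- the generators become multiples of `y`
  have hdiv : ∀ g : G, ∃ h : S', ι (g : S) = algebraMap R R' y • h := fun g => by
    have hle : content (A := R') (ι (g : S)) ≤ Ideal.span {algebraMap R R' y} := by
      rw [content_baseChange hι, Ideal.map_le_iff_le_comap]
      exact fun c hc => hCy c (le_iSup (fun g : G => content (A := R) (g : S)) g hc)
    have h1 := mem_map_of_content_le hle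
    rw [Ideal.map_span, Set.image_singleton, Ideal.mem_span_singleton] at h1
    obtain ⟨h, hh⟩ := h1
    exact ⟨h, hh.trans (Algebra.smul_def _ _).symm⟩
  choose h hh using hdiv
  obtain ⟨g₀, hg₀⟩ : ∃ g : G, h g ∉ q' := by
    by_contra hall
    push Not at hall
    have hle : C.map (algebraMap R R') ≤ Ideal.span {algebraMap R R' y} * p' := by
      rw [Ideal.map_iSup]
      refine iSup_le fun g => ?_
      rw [← content_baseChange hι, hh, content_smul]
      exact Ideal.mul_mono le_rfl (content_le_of_mem_map (hall g))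
    obtain ⟨d, hd, hyd⟩ := Ideal.mem_span_singleton_mul.1 (hle (Ideal.mem_map_of_mem _ hy))
    refine Ideal.IsPrime.ne_top (inferInstance : p'.IsPrime) ((Ideal.eq_top_iff_one _).2 ?_)
    have hd1 : d = 1 := (mul_cancel_left_mem_nonZeroDivisors hyR).1 (hyd.trans (mul_one _).symm)
    rwa [← hd1]
  -- Fitting ideals of the base change of `N`
  let N' := S' ⊗[S] N
  have hbc : IsBaseChange S' (TensorProduct.mk S S' N 1) := TensorProduct.isBaseChange S N S'
  set aS := algebraMap R S (f * y) with haS
  have haS' : algebraMap S S' aS ∈ nonZeroDivisors S' := by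
    rw [haS, ← IsScalarTower.algebraMap_apply]
    exact hnzd _ (by rw [map_mul]; exact haR)
  have hlow' : ∀ j, j < r → Fitt.ideal S' N' j = ⊥ := fun j hj => by
    rw [ideal_baseChange hbc j, eq_bot_iff, Ideal.map_le_iff_le_comap]
    intro x hx
    obtain ⟨n, hn⟩ := hlow j hj x hx
    have h1 := congrArg (algebraMap S S') hn
    rw [map_mul, map_pow, map_zero, mul_comm] at h1
    exact mem_nonZeroDivisors_iff_right.1 (pow_mem hfS' n) _ h1
  let A := Localization.AtPrime q'
  have hprin : (Fitt.ideal S' N' r).map (algebraMap S' A) = Ideal.span {algebraMap S' A (algebraMap R S' y)} := by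
    rw [ideal_baseChange hbc r, ← hG, Ideal.map_span, Ideal.map_span]
    refine le_antisymm (Ideal.span_le.2 ?_) ((Ideal.span_singleton_le_iff_mem _).2 ?_)
    · rintro _ ⟨_, ⟨g, hg, rfl⟩, rfl⟩
      rw [SetLike.mem_coe, show algebraMap S S' g = ι g from rfl, hh ⟨g, hg⟩, Algebra.smul_def,
        ← IsScalarTower.algebraMap_apply R R' S', map_mul]
      exact Ideal.mul_mem_right _ _ (Ideal.mem_span_singleton_self _)
    · have hu : IsUnit (algebraMap S' A (h g₀)) := IsLocalization.map_units A (⟨h g₀, hg₀⟩ : q'.primeCompl)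
      have hm : algebraMap S' A (ι (g₀ : S)) ∈
          Ideal.span (algebraMap S' A '' (algebraMap S S' '' (G : Set S))) :=
        Ideal.subset_span ⟨_, ⟨_, g₀.2, rfl⟩, rfl⟩
      rw [hh, Algebra.smul_def, ← IsScalarTower.algebraMap_apply R R' S', map_mul] at hm
      exact (Ideal.unit_mul_mem_iff_mem _ hu).1 (by rwa [mul_comm])
  let N'' := N' ⧸ FlatCA.powTorsion S' (algebraMap S S' aS) N'
  have hnot : ¬ Fitt.ideal S' N'' r ≤ q' := not_le_quotient_powTorsion
    (by rw [haS, ← IsScalarTower.algebraMap_apply, map_mul]; exact dvd_mul_left _ _) q' hprin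
  have hbot : ∀ j, j < r → Fitt.ideal S' N'' j = ⊥ := fun j hj =>
    ideal_quotient_powTorsion_eq_bot haS' (hlow' j hj)
  obtain ⟨g, hg, hfr⟩ := exists_free_near (M := N'') r hbot q' hnot
  -- back to `M'`
  obtain ⟨E⟩ := nonempty_strict_equiv π hπ hker (a := aS)
    (Ideal.le_radical (by rw [haS, map_mul, ← hfS]; exact Ideal.mem_span_singleton.2 (dvd_mul_right _ _))) S'
  let E₂ : ((S' ⊗[S] M) ⧸ FlatCA.powTorsion S' (algebraMap S S' aS) (S' ⊗[S] M)) ≃ₗ[S']
      (M' ⧸ FlatCA.powTorsion S' (algebraMap R S' (f * y)) M') :=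
    Submodule.Quotient.equiv _ _ hφ.equiv (by
      rw [haS, ← IsScalarTower.algebraMap_apply]
      ext z
      rw [Submodule.mem_map_equiv, FittX.mem_powTorsion, FittX.mem_powTorsion]
      exact exists_congr fun n => by rw [← map_smul, LinearEquiv.map_eq_zero_iff])
  haveI : Module.Finite S' N'' := inferInstance
  haveI : Module.Finite S' ((S' ⊗[S] M) ⧸ FlatCA.powTorsion S' (algebraMap S S' aS) (S' ⊗[S] M)) := inferInstance
  obtain ⟨hF, hR⟩ := FittX.free_of_equiv_away (E.trans E₂) g r hfr
  haveI : Module.Finite S' (M' ⧸ FlatCA.powTorsion S' (algebraMap R S' (f * y)) M') := Module.Finite.equiv E₂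
  haveI : Module.Finite (Localization.Away g)
      (LocalizedModule (Submonoid.powers g) (M' ⧸ FlatCA.powTorsion S' (algebraMap R S' (f * y)) M')) :=
    Module.Finite.of_isLocalizedModule (Submonoid.powers g) (LocalizedModule.mkLinearMap (Submonoid.powers g) _)
  haveI := hF
  haveI : Nontrivial (Localization.Away g) :=
    (IsLocalization.isPrime_of_isPrime_disjoint (Submonoid.powers g) (Localization.Away g) q'
      ‹_› (by rwa [Ideal.disjoint_powers_iff_notMem _ (Ideal.IsPrime.isRadical ‹_›)])).ne_top
        |> fun h => (not_subsingleton_iff_nontrivial.1 fun _ => h (Subsingleton.elim _ _))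
  exact ⟨g, hg, hF, by rw [← Module.finrank_eq_rank, hR]⟩

end Groth.Agent.FlatBlow
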